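import Groth.Agent.BaldLib.Iso
import Groth.Agent.IsoNatClean.Glue
import Groth.Agent.ASt.Chart
import Groth.Agent.ASt.PtsTop
import Groth.Agent.ASt.OverMapRep
import Groth.Agent.ASt.Local
/-!
A universal family of isomorphisms between values of a smooth chart.
-/

set_option autoImplicit false
set_option backward.isDefEq.respectTransparency false
set_option backward.isDefEq.respectTransparency.types false
set_option linter.unusedSectionVars false
set_option linter.style.haveILetI false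

universe u

open CategoryTheory CategoryTheory.Limits AlgebraicGeometry Opposite

namespace Groth.Agent.BaldLib

open _root_.AlgSp Groth.Agent.ASt Groth.Agent.ASp Groth.Agent.IsoNatClean
open Groth.Agent.IsoSmLib (Pt secOf homOf secOf_homOf secOf_injective secOf_map secOf_comp exists_vert_ov)

variable {S : Scheme.{u}} {𝒳 : AlgSt.Cat S} [h𝒳 : FibCat.IsFibGrpd 𝒳.p] {U : Over S}
  {x : FibCat.overCat U ⥤ᵇ 𝒳}

/-- An isomorphism as a point of the self product of the chart. -/
noncomputable def toPt {T : Over S} {g g' : T ⟶ U} (a : IsoG x g g') : Pt x x g :=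
  { x := ov g'
    hx := rfl
    φ := a.hom
    hφ := a.vert.trans rfl }

theorem clMap_toPt {T T' : Over S} {g g' : T ⟶ U} (r : T' ⟶ T) {l l' : T' ⟶ U} (e : r ≫ g = l)
    (e' : r ≫ g' = l') (a : IsoG x g g') :
    clMap r (toPt a).el = (toPt (IsoG.res r e e' a)).el :=
  clMap_fpEl r e (ovHom r e') (IsoG.res_comp r e e' a).symm

theorem exists_toPt {T : Over S} {g : T ⟶ U} (P : Pt x x g) :
    ∃ (g' : T ⟶ U) (a : IsoG x g g'), (toPt a).el = P.el := by
  obtain ⟨o, ho, φ, hφ⟩ := P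
  obtain ⟨u, m, hm⟩ := exists_vert_ov o ho
  exact ⟨u, ⟨φ ≫ x.map m, by rw [Functor.map_comp, hφ, map_w, show (FibCat.overCat U).p.map m = _ from hm]; simp⟩,
    (fpEl_eq_iff.2 ⟨m, hm, rfl⟩).symm⟩

theorem toPt_eq {T : Over S} {g g' h h' : T ⟶ U} {a : IsoG x g g'} {b : IsoG x h h'}
    (e : (toPt a).el = (toPt b).el) :
    ∃ (e₁ : g = h) (e₂ : g' = h'),
      IsoG.res (𝟙 T) ((Category.id_comp g).trans e₁) ((Category.id_comp g').trans e₂) a = b := by
  obtain rfl : g = h := Pt.eq_of_el e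
  obtain ⟨m, hm, hm'⟩ := fpEl_eq_iff.1 e
  change (FibCat.overCat U).p.map m = _ at hm
  have hl : m.left = 𝟙 T := hm.trans (eqToHom_refl _ _)
  obtain rfl : g' = h' := by
    have : m.left ≫ h' = g' := Over.w m
    rw [hl] at this
    exact this.symm.trans (Category.id_comp h')
  refine ⟨rfl, rfl, (IsoG.eq_res (𝟙 T) _ _ a b ?_).symm⟩
  have h1 : ovHom (𝟙 T) (Category.id_comp g') = 𝟙 (ov g') := Over.OverMorphism.ext rfl
  have h2 : ovHom (𝟙 T) (Category.id_comp g) = 𝟙 (ov g) := Over.OverMorphism.ext rfl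
  have h3 : m = 𝟙 (ov g') := Over.OverMorphism.ext hl
  have hm'' : a.hom ≫ x.map m = b.hom := hm'
  rw [h3, CategoryTheory.Functor.map_id, Category.comp_id] at hm''
  rw [h1, h2, CategoryTheory.Functor.map_id, CategoryTheory.Functor.map_id, Category.comp_id, Category.id_comp, hm'']

variable (x) in
/-- A scheme of isomorphisms between values of the chart, covering all of them. -/
structure IsoChart where
  /-- the scheme -/
  W : Over S
  /-- the source -/
  p : W ⟶ U
  /-- the target -/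
  q : W ⟶ U
  /-- the isomorphism -/
  α : IsoG x p q
  smooth : Smooth p.left
  cover : ∀ {T : Over S} {g g' : T ⟶ U} (a : IsoG x g g'), ∃ R ∈ AlgSp.J S T, ∀ ⦃V : Over S⦄ (h : V ⟶ T), R h →
    ∃ (r : V ⟶ W) (e : r ≫ p = h ≫ g) (e' : r ≫ q = h ≫ g'), IsoG.res r e e' α = IsoG.res h rfl rfl a
  sep : ∀ {T : Over S} (r r' : T ⟶ W) (e : r' ≫ p = r ≫ p) (e' : r' ≫ q = r ≫ q),
    IsoG.res r' e e' α = IsoG.res r rfl rfl α →
      ∃ (W₂ : Over S) (a b : W₂ ⟶ W) (t : T ⟶ W₂), Smooth (a ≫ p).left ∧ b ≫ p = a ≫ p ∧ b ≫ q = a ≫ q ∧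
        t ≫ a = r ∧ t ≫ b = r'

theorem exists_isoChart (hx : AlgSt.RepByAlgSpWith (LocP @Smooth) x) : Nonempty (IsoChart x) := by
  obtain ⟨hs, hA, W, p₀, -, p, hpe, hps, hcomp, -⟩ := exists_chart_of_fib (repByAlgSp1_of_with hx) x
  obtain ⟨hs', hA', hP⟩ := (repByAlgSpWith_iff.1 hx).2 U x
  let F : Sp S := ⟨fib x x, hs⟩
  let π : F ⟶ (yon S).obj U := ObjectProperty.homMk (fibπ x x)
  have hp : Smooth p.left := prop_chart (π := π) hpe hcomp hP
  obtain ⟨k, P, hk⟩ := Pt.exists_el (secOf p₀ : ClType (FibCat.fp x x) W)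
  obtain rfl : k = p := by
    have h := congrArg secOf hcomp
    rw [secOf_comp] at h
    change (fibπ x x).app (op W) (secOf p₀) = _ at h
    rw [fibπ_app, ← hk, P.fpHom_el] at h
    exact (congrArg ULift.down h).trans (Category.id_comp p)
  obtain ⟨q, α, hα⟩ := exists_toPt P
  have key : ∀ {T : Over S} (r : T ⟶ W), secOf ((yon S).map r ≫ p₀) =
      (toPt (IsoG.res r rfl rfl α)).el := fun r => by
    rw [secOf_map, ← hk, ← hα]
    exact clMap_toPt r rfl rfl α
  refine ⟨⟨W, k, q, α, hp, fun {T} {g g'} a => ?_, fun {T} r r' e e' h => ?_⟩⟩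
  · let σ : (yon S).obj T ⟶ F := homOf (toPt a).el
    have sq := hpe.1.isPullback σ
    obtain ⟨l, hl⟩ := (yon S).map_surjective (hpe.1.fst σ)
    haveI : Etale (hpe.1.snd σ).left := hpe.2 _ _ _ sq
    haveI : Surjective (hpe.1.snd σ).left := hps.2 _ _ _ sq
    refine ⟨facSieve (hpe.1.snd σ), facSieve_mem _, fun V h ⟨m, hm⟩ => ?_⟩
    have hw : (toPt (IsoG.res (m ≫ l) rfl rfl α)).el = (toPt (IsoG.res h rfl rfl a)).el := by
      rw [← key]
      refine Eq.trans ?_ (clMap_toPt h rfl rfl a)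
      rw [Functor.map_comp, Category.assoc, hl, sq.w, ← Category.assoc, ← Functor.map_comp, hm, secOf_map,
        secOf_homOf]
      rfl
    obtain ⟨e₁, e₂, h₃⟩ := toPt_eq hw
    refine ⟨m ≫ l, e₁, e₂, ?_⟩
    rw [← h₃]
    exact (IsoG.res_res_eq (Category.id_comp _) _ _ _ _ α).symm
  · have hr : (yon S).map r' ≫ p₀ = (yon S).map r ≫ p₀ := by
      refine secOf_injective ?_
      rw [key, key, ← h, ← clMap_toPt r' e e' α]
      exact (clMap_toPt r' rfl rfl α).symm
    have sq := hpe.1.isPullback p₀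
    obtain ⟨b, hb⟩ := (yon S).map_surjective (hpe.1.fst p₀)
    let a := hpe.1.snd p₀
    haveI : Etale a.left := hpe.2 _ _ _ sq
    haveI := hp
    obtain ⟨t, ht⟩ := (yon S).map_surjective (sq.lift ((yon S).map r') ((yon S).map r) hr)
    have hta : t ≫ a = r := (yon S).map_injective (by rw [Functor.map_comp, ht]; exact sq.lift_snd _ _ _)
    have htb : t ≫ b = r' := (yon S).map_injective (by rw [Functor.map_comp, ht, hb]; exact sq.lift_fst _ _ _)
    have hab : (toPt (IsoG.res b rfl rfl α)).el = (toPt (IsoG.res a rfl rfl α)).el := by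
      rw [← key, ← key, hb]
      exact congrArg secOf sq.w
    obtain ⟨e₁, e₂, -⟩ := toPt_eq hab
    exact ⟨_, a, b, t, inferInstanceAs (Smooth (a.left ≫ k.left)), e₁, e₂, hta, htb⟩

end Groth.Agent.BaldLib
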