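import Groth.Agent.BaldLib.Theta
import Groth.Agent.BGFormLib.Form
/-!
The equivalence extending a transport of isomorphisms between two charts.
-/

set_option autoImplicit false
set_option backward.isDefEq.respectTransparency false
set_option backward.isDefEq.respectTransparency.types false
set_option linter.unusedSectionVars false
set_option linter.style.haveILetI false

universe u

open CategoryTheory AlgebraicGeometry

namespace Groth.Agent.BaldLib

open Groth.Agent.ASt Groth.Agent.RepOne Groth.Agent.IsoNatClean Groth.Agent.IsoAutLib Groth.Agent.StackExtLib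
open Groth.Agent.BGFormLib (InForm kq xi map_xi map_xi_inv IsLocForm inForm_of_clMap lbase)

variable {S : Scheme.{u}} {𝒳 𝒴 : AlgSt.Cat S} [h𝒳 : FibCat.IsFibGrpd 𝒳.p] [h𝒴 : FibCat.IsFibGrpd 𝒴.p]
  {U : Over S}

/-- A bijective natural transport of isomorphisms between two charts. -/
structure Transport (x : FibCat.overCat U ⥤ᵇ 𝒳) (y : FibCat.overCat U ⥤ᵇ 𝒴) where
  /-- the map -/
  Θ : ∀ {T : Over S} {g g' : T ⟶ U}, IsoG x g g' → IsoG y g g'
  bij : ∀ {T : Over S} (g g' : T ⟶ U), Function.Bijective (Θ (g := g) (g' := g'))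
  nat : ∀ {T T' : Over S} {g g' : T ⟶ U} {l l' : T' ⟶ U} (j : T' ⟶ T) (f : j ≫ g = l) (f' : j ≫ g' = l')
    (a : IsoG x g g'), Θ (IsoG.res j f f' a) = IsoG.res j f f' (Θ a)
  map_refl : ∀ {T : Over S} (g : T ⟶ U), Θ (IsoG.refl g) = IsoG.refl g
  map_trans : ∀ {T : Over S} {g g' g'' : T ⟶ U} (a : IsoG x g g') (a' : IsoG x g' g''),
    Θ (a.trans a') = (Θ a).trans (Θ a')

variable {x : FibCat.overCat U ⥤ᵇ 𝒳} {y : FibCat.overCat U ⥤ᵇ 𝒴} (D : Transport x y) {T T' T'' : Over S}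
  {k : T ⟶ U} {k' : T' ⟶ U} {k'' : T'' ⟶ U}

theorem part_aux (m : x.obj (ov k) ⟶ x.obj (ov k')) :
    eqToHom ((base_eq x k).trans (base_eq x (lbase m ≫ k')).symm) ≫ 𝒳.p.map (x.map (ovHom (lbase m) rfl)) =
      𝒳.p.map m := by
  rw [map_w, ov_p_map]
  simp [lbase]

/-- The vertical part. -/
noncomputable def part (m : x.obj (ov k) ⟶ x.obj (ov k')) : IsoG x k (lbase m ≫ k') :=
  ⟨facMap (x.map (ovHom (lbase m) rfl)) m _ (part_aux m), map_facMap _ _ _ (part_aux m)⟩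

theorem part_comp (m : x.obj (ov k) ⟶ x.obj (ov k')) :
    (part m).hom ≫ x.map (ovHom (lbase m) rfl) = m := facMap_comp _ _ _ (part_aux m)

/-- The transported morphism. -/
noncomputable def tr (m : x.obj (ov k) ⟶ x.obj (ov k')) : y.obj (ov k) ⟶ y.obj (ov k') :=
  (D.Θ (part m)).hom ≫ y.map (ovHom (lbase m) rfl)

theorem map_tr (m : x.obj (ov k) ⟶ x.obj (ov k')) :
    𝒴.p.map (tr D m) = eqToHom (base_eq y k) ≫ lbase m ≫ eqToHom (base_eq y k').symm := by
  rw [tr, Functor.map_comp, IsoG.vert, map_w, ov_p_map]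
  simp

theorem tr_eq {u : T ⟶ U} (a : IsoG x k u) (l : T ⟶ T') (h : l ≫ k' = u) :
    tr D (a.hom ≫ x.map (ovHom l h)) = (D.Θ a).hom ≫ y.map (ovHom l h) := by
  have hl : lbase (a.hom ≫ x.map (ovHom l h)) = l := by
    rw [lbase, Functor.map_comp, a.vert, map_w, ov_p_map]
    simp
  have key : ∀ (l' : T ⟶ T') (a' : IsoG x k (l' ≫ k')), l' = l →
      a'.hom ≫ x.map (ovHom l' rfl) = a.hom ≫ x.map (ovHom l h) →
      (D.Θ a').hom ≫ y.map (ovHom l' rfl) = (D.Θ a).hom ≫ y.map (ovHom l h) := by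
    intro l' a' e he
    subst l'
    subst h
    rw [IsoG.ext (hom_ext _ (a'.vert.trans a.vert.symm) he)]
  exact key _ _ hl (part_comp _)

theorem tr_id (k : T ⟶ U) : tr D (𝟙 (x.obj (ov k))) = 𝟙 _ := by
  have h : ovHom (𝟙 T) (Category.id_comp k) = 𝟙 (ov k) := Over.OverMorphism.ext rfl
  conv_lhs => rw [show 𝟙 (x.obj (ov k)) = (IsoG.refl (y := x) k).hom ≫ x.map (ovHom (𝟙 T) (Category.id_comp k)) from by
    rw [h, CategoryTheory.Functor.map_id, Category.comp_id]; rfl]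
  rw [tr_eq, D.map_refl, h, CategoryTheory.Functor.map_id, Category.comp_id]
  rfl

theorem tr_comp (m : x.obj (ov k) ⟶ x.obj (ov k')) (n : x.obj (ov k') ⟶ x.obj (ov k'')) :
    tr D (m ≫ n) = tr D m ≫ tr D n := by
  conv_lhs => rw [← part_comp m, ← part_comp n]
  have hassoc : lbase m ≫ lbase n ≫ k'' = (lbase m ≫ lbase n) ≫ k'' := (Category.assoc _ _ _).symm
  have ho : ovHom (lbase m ≫ lbase n) rfl =
      ovHom (lbase m) hassoc ≫ ovHom (lbase n) (rfl : lbase n ≫ k'' = _) :=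
    Over.OverMorphism.ext rfl
  have he : ((part m).hom ≫ x.map (ovHom (lbase m) rfl)) ≫ (part n).hom ≫ x.map (ovHom (lbase n) rfl) =
      ((part m).trans (IsoG.res (lbase m) rfl hassoc (part n))).hom ≫ x.map (ovHom (lbase m ≫ lbase n) rfl) := by
    rw [ho, Functor.map_comp]
    simp only [IsoG.trans, Category.assoc]
    rw [IsoG.res_comp_assoc]
  rw [he, tr_eq, D.map_trans, D.nat, ho, Functor.map_comp]
  simp only [IsoG.trans, Category.assoc, tr]
  rw [IsoG.res_comp_assoc]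

theorem tr_injective : Function.Injective (tr D (k := k) (k' := k')) := by
  intro m n h
  have hl : lbase m = lbase n := by
    have h1 := congrArg (fun j => 𝒴.p.map j) h
    simp only [map_tr] at h1
    simpa [cancel_epi, cancel_mono] using h1
  have key : ∀ (l l' : T ⟶ T') (a : IsoG x k (l ≫ k')) (a' : IsoG x k (l' ≫ k')), l = l' →
      (D.Θ a).hom ≫ y.map (ovHom l rfl) = (D.Θ a').hom ≫ y.map (ovHom l' rfl) →
      a.hom ≫ x.map (ovHom l rfl) = a'.hom ≫ x.map (ovHom l' rfl) := by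
    intro l l' a a' e he
    subst e
    rw [(D.bij _ _).1 (IsoG.ext (hom_ext _ ((D.Θ a).vert.trans (D.Θ a').vert.symm) he))]
  rw [← part_comp m, ← part_comp n]
  exact key _ _ _ _ hl h

theorem tr_surjective : Function.Surjective (tr D (k := k) (k' := k')) := by
  intro n
  let l : T ⟶ T' := eqToHom (base_eq y k).symm ≫ 𝒴.p.map n ≫ eqToHom (base_eq y k')
  have e : eqToHom ((base_eq y k).trans (base_eq y (l ≫ k')).symm) ≫ 𝒴.p.map (y.map (ovHom l rfl)) =
      𝒴.p.map n := by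
    rw [map_w, ov_p_map]
    simp [l]
  let b : IsoG y k (l ≫ k') := ⟨facMap _ n _ e, map_facMap _ _ _ e⟩
  obtain ⟨a, ha⟩ := (D.bij _ _).2 b
  refine ⟨a.hom ≫ x.map (ovHom l rfl), ?_⟩
  rw [tr_eq, ha]
  exact facMap_comp _ _ _ e

/-- The functor on members. -/
noncomputable def formFun : sub 𝒳 (InForm x) ⥤ᵇ 𝒴 where
  toFunctor :=
    { obj := fun q => y.obj (ov (kq q))
      map := fun {q q'} f => tr D ((xi q).inv ≫ f.hom ≫ (xi q').hom)
      map_id := fun q => by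
        rw [show (𝟙 q : q ⟶ q).hom = 𝟙 q.obj from rfl, Category.id_comp, Iso.inv_hom_id, tr_id]
      map_comp := fun {q q' q''} f g => by
        rw [← tr_comp, show (f ≫ g).hom = f.hom ≫ g.hom from rfl]
        simp only [Category.assoc, Iso.hom_inv_id_assoc] }
  w := CategoryTheory.Functor.ext (F := _ ⋙ 𝒴.p) (G := (sub 𝒳 (InForm x)).p)
    (fun q => base_eq y (kq q)) fun q q' f => by
      change 𝒴.p.map (tr D _) = _
      rw [map_tr, lbase, Functor.map_comp, Functor.map_comp, map_xi, map_xi_inv]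
      simp only [Category.assoc, eqToHom_trans, eqToHom_refl, eqToHom_trans_assoc, Category.id_comp, Category.comp_id]
      rfl

instance : (formFun D).toFunctor.Faithful := ⟨fun {q q'} {f g} h => ObjectProperty.hom_ext _
  ((cancel_mono (xi q').hom).1 ((cancel_epi (xi q).inv).1 (tr_injective D h)))⟩

instance : (formFun D).toFunctor.Full := ⟨fun {q q'} n => by
  obtain ⟨m, hm⟩ := tr_surjective D n
  refine ⟨ObjectProperty.homMk ((xi q).hom ≫ m ≫ (xi q').inv), ?_⟩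
  change tr D ((xi q).inv ≫ ((xi q).hom ≫ m ≫ (xi q').inv) ≫ (xi q').hom) = n
  simp [hm]⟩

include D in
theorem exists_equiv_of_transport (hX : Stk.IsStack (AlgSp.J S) 𝒳) (hY : Stk.IsStack (AlgSp.J S) 𝒴)
    (hloc : ∀ z : 𝒳.obj, ∃ R ∈ AlgSp.J S (𝒳.p.obj z), ∀ ⦃V : Over S⦄ (g : V ⟶ 𝒳.p.obj z), R g →
      ∃ k : V ⟶ U, clMap g (cl z rfl) = IsoSmLib.clAt x k)
    (hloc' : ∀ z : 𝒴.obj, ∃ R ∈ AlgSp.J S (𝒴.p.obj z), ∀ ⦃V : Over S⦄ (g : V ⟶ 𝒴.p.obj z), R g →
      ∃ k : V ⟶ U, clMap g (cl z rfl) = IsoSmLib.clAt y k) :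
    ∃ e : 𝒳 ⥤ᵇ 𝒴, FibCat.IsEquivOver e := by
  let L : LocData (AlgSp.J S) 𝒳 𝒴 :=
    { Q := InForm x
      pull_mem := fun f ⟨T, k, ⟨h⟩⟩ => ⟨T, k, ⟨f ≫ h⟩⟩
      cover := fun z => by
        obtain ⟨R, hR, h⟩ := hloc z
        exact ⟨R, hR, fun V g hg => by
          obtain ⟨k, hk⟩ := h g hg
          obtain ⟨a, -⟩ := inForm_of_clMap g k (hk.trans (Doubled.clMap_base0 (y := x) k).symm)
          exact ⟨V, k, ⟨a⟩⟩⟩
      F := formFun D
      stack := hY }
  haveI : L.F.toFunctor.Faithful := inferInstanceAs (formFun D).toFunctor.Faithful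
  haveI : L.F.toFunctor.Full := inferInstanceAs (formFun D).toFunctor.Full
  refine exists_equiv (D := L) hX fun z => ?_
  obtain ⟨R, hR, h⟩ := hloc' z
  refine ⟨R, hR, fun V g hg => ?_⟩
  obtain ⟨k, hk⟩ := h g hg
  obtain ⟨a, ha⟩ := inForm_of_clMap g k (hk.trans (Doubled.clMap_base0 (y := y) k).symm)
  haveI := isIso_of_vert a ha
  let q : (sub 𝒳 (InForm x)).obj := ⟨x.obj (ov k), V, k, ⟨𝟙 _⟩⟩
  have hq : 𝒳.p.obj q.obj = V := base_eq x k
  let j : y.obj (ov (kq q)) ⟶ y.obj (ov k) := tr D (xi q).inv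
  refine ⟨q, hq, j ≫ inv a ≫ pullHom z rfl g, ?_⟩
  have hai : 𝒴.p.map (inv a) = eqToHom ((base_eq y k).trans (pull_base z rfl g).symm) := by
    rw [Functor.map_inv, IsIso.inv_eq_of_hom_inv_id]
    rw [ha]
    simp
  change 𝒴.p.map (j ≫ inv a ≫ pullHom z rfl g) = _
  rw [Functor.map_comp, Functor.map_comp, hai, map_pullHom, show j = tr D (xi q).inv from rfl, map_tr, lbase,
    map_xi_inv]
  simp [q]

end Groth.Agent.BaldLib
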