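import Groth.Agent.IsoAutLib.AutG
import Groth.Agent.RepOne.Desc
import Groth.Agent.IsoSmLib.Core
import Groth.Agent.Boot.FaithfulDesc
/-!
Isomorphisms between two values of a functor out of a slice, over the identity of the base.
-/

set_option autoImplicit false
set_option backward.isDefEq.respectTransparency false
set_option backward.isDefEq.respectTransparency.types false
set_option linter.unusedSectionVars false

universe u

open CategoryTheory AlgebraicGeometry

namespace Groth.Agent.BaldLib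

open Groth.Agent.ASt Groth.Agent.RepOne Groth.Agent.IsoAutLib

variable {S : Scheme.{u}} {𝒳 : AlgSt.Cat S} [h𝒳 : FibCat.IsFibGrpd 𝒳.p] {U : Over S}
  {y : FibCat.overCat U ⥤ᵇ 𝒳}

theorem base_eq (y : FibCat.overCat U ⥤ᵇ 𝒳) {T : Over S} (k : T ⟶ U) : 𝒳.p.obj (y.obj (ov k)) = T :=
  (y.w_obj (ov k)).trans (ov_base k)

variable (y) in
/-- An isomorphism over the base between two values. -/
@[ext]
structure IsoG {T : Over S} (k k' : T ⟶ U) where
  /-- the morphism -/
  hom : y.obj (ov k) ⟶ y.obj (ov k')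
  vert : 𝒳.p.map hom = eqToHom ((base_eq y k).trans (base_eq y k').symm)

namespace IsoG

variable {T T' T'' : Over S} {k k' k'' : T ⟶ U} {l l' l'' : T' ⟶ U} {m m' : T'' ⟶ U}

/-- Composition. -/
noncomputable def trans (a : IsoG y k k') (b : IsoG y k' k'') : IsoG y k k'' :=
  ⟨a.hom ≫ b.hom, by rw [Functor.map_comp, a.vert, b.vert, eqToHom_trans]⟩

/-- The identity. -/
noncomputable def refl (k : T ⟶ U) : IsoG y k k :=
  ⟨𝟙 _, by rw [CategoryTheory.Functor.map_id, eqToHom_refl]⟩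

instance (a : IsoG y k k') : IsIso a.hom := isIso_of_vert a.hom a.vert

/-- The inverse. -/
noncomputable def symm (a : IsoG y k k') : IsoG y k' k :=
  ⟨inv a.hom, by
    rw [← cancel_epi (𝒳.p.map a.hom), ← Functor.map_comp, IsIso.hom_inv_id, CategoryTheory.Functor.map_id, a.vert]
    simp⟩

/-- As an automorphism. -/
def toAut (a : IsoG y k k) : AutG y k := ⟨a.hom, a.vert.trans (eqToHom_refl _ rfl)⟩

theorem eq_of_aut (h : ∀ c : AutG y k, c = 1) (a b : IsoG y k k') : a = b := by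
  have e := congrArg AutG.hom (h (toAut (a.trans b.symm)))
  change a.hom ≫ inv b.hom = 𝟙 _ at e
  exact IsoG.ext (by rwa [IsIso.comp_inv_eq, Category.id_comp] at e)

theorem res_aux (g : T' ⟶ T) (e : g ≫ k = l) (e' : g ≫ k' = l') (a : IsoG y k k') :
    eqToHom ((base_eq y l).trans (base_eq y l').symm) ≫ 𝒳.p.map (y.map (ovHom g e')) =
      𝒳.p.map (y.map (ovHom g e) ≫ a.hom) := by
  rw [Functor.map_comp, a.vert, map_w, map_w, ov_p_map, ov_p_map]
  simp

/-- Restriction. -/
noncomputable def res (g : T' ⟶ T) (e : g ≫ k = l) (e' : g ≫ k' = l') (a : IsoG y k k') : IsoG y l l' :=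
  ⟨facMap (y.map (ovHom g e')) (y.map (ovHom g e) ≫ a.hom) _ (res_aux g e e' a),
    map_facMap _ _ _ (res_aux g e e' a)⟩

@[reassoc]
theorem res_comp (g : T' ⟶ T) (e : g ≫ k = l) (e' : g ≫ k' = l') (a : IsoG y k k') :
    (res g e e' a).hom ≫ y.map (ovHom g e') = y.map (ovHom g e) ≫ a.hom :=
  facMap_comp _ _ _ (res_aux g e e' a)

theorem eq_res (g : T' ⟶ T) (e : g ≫ k = l) (e' : g ≫ k' = l') (a : IsoG y k k') (b : IsoG y l l')
    (h : b.hom ≫ y.map (ovHom g e') = y.map (ovHom g e) ≫ a.hom) : b = res g e e' a :=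
  IsoG.ext (hom_ext (y.map (ovHom g e')) (b.vert.trans (res g e e' a).vert.symm) (h.trans (res_comp g e e' a).symm))

theorem res_trans (g : T' ⟶ T) (e : g ≫ k = l) (e' : g ≫ k' = l') (e'' : g ≫ k'' = l'') (a : IsoG y k k')
    (b : IsoG y k' k'') : res g e e'' (a.trans b) = (res g e e' a).trans (res g e' e'' b) :=
  (eq_res g e e'' _ _ (by simp only [trans, Category.assoc, res_comp, res_comp_assoc])).symm

theorem res_refl (g : T' ⟶ T) (e : g ≫ k = l) : res g e e (refl (y := y) k) = refl l :=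
  (eq_res g e e _ _ (by simp [refl])).symm

theorem res_res (g' : T'' ⟶ T') (f : g' ≫ l = m) (f' : g' ≫ l' = m') (g : T' ⟶ T) (e : g ≫ k = l)
    (e' : g ≫ k' = l') (a : IsoG y k k') :
    res g' f f' (res g e e' a) =
      res (g' ≫ g) (by rw [Category.assoc, e, f]) (by rw [Category.assoc, e', f']) a := by
  refine eq_res _ _ _ a _ ?_
  rw [show ovHom (g' ≫ g) (by rw [Category.assoc, e', f'] : (g' ≫ g) ≫ k' = m') = ovHom g' f' ≫ ovHom g e' from
      Over.OverMorphism.ext rfl,
    show ovHom (g' ≫ g) (by rw [Category.assoc, e, f] : (g' ≫ g) ≫ k = m) = ovHom g' f ≫ ovHom g e from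
      Over.OverMorphism.ext rfl,
    Functor.map_comp, Functor.map_comp, res_comp_assoc, res_comp, Category.assoc]

theorem res_congr {g g' : T' ⟶ T} (h : g = g') (e : g ≫ k = l) (e' : g ≫ k' = l') (a : IsoG y k k') :
    res g e e' a = res g' (h ▸ e) (h ▸ e') a := by
  subst h; rfl

theorem res_res_eq {g' : T'' ⟶ T'} {g : T' ⟶ T} {g'' : T'' ⟶ T} (h : g' ≫ g = g'') (f : g' ≫ l = m)
    (f' : g' ≫ l' = m') (e : g ≫ k = l) (e' : g ≫ k' = l') (a : IsoG y k k') :
    res g' f f' (res g e e' a) = res g'' (by rw [← h, Category.assoc, e, f]) (by rw [← h, Category.assoc, e', f']) a :=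
  (res_res g' f f' g e e' a).trans (res_congr h _ _ a)

end IsoG

/-- The inclusion of a sieve in the slice. -/
noncomputable def sieveIncl {T : Over S} (R : Sieve T) : Stk.sieveCat R ⥤ᵇ FibCat.overCat T where
  toFunctor :=
    { obj := fun s => ov s.obj.hom
      map := fun {s t} n => ovHom n.hom.left (Over.w n.hom) }
  w := rfl

/-- Isomorphisms glue uniquely along covering sieves. -/
theorem exists_glue (hst : Stk.IsStack (AlgSp.J S) 𝒳) {T : Over S} {k k' : T ⟶ U} {R : Sieve T}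
    (hR : R ∈ AlgSp.J S T) (b : ∀ {V : Over S} (h : V ⟶ T), R h → IsoG y (h ≫ k) (h ≫ k'))
    (hb : ∀ {V V' : Over S} (n : V' ⟶ V) (h : V ⟶ T) (hh : R h),
      IsoG.res n (by rw [Category.assoc]) (by rw [Category.assoc]) (b h hh) = b (n ≫ h) (R.downward_closed hh n)) :
    ∃! a : IsoG y k k', ∀ {V : Over S} (h : V ⟶ T) (hh : R h), IsoG.res h rfl rfl a = b h hh := by
  let D : Stk.sieveCat R ⥤ᵇ 𝒳 := BasedFunctor.comp (BasedFunctor.comp (sieveIncl R) (AlgSt.overMap k)) y
  let c₁ : SCone D :=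
    { pt := y.obj (ov k)
      base := base_eq y k
      ι := fun s => y.map (ovHom s.obj.hom rfl : ov (s.obj.hom ≫ k) ⟶ ov k)
      map_ι := fun s => by rw [map_w, ov_p_map]; rfl
      nat := fun {s t} n => by
        change y.map _ ≫ y.map _ = y.map _
        rw [← Functor.map_comp]
        exact congrArg y.map (Over.OverMorphism.ext (Over.w n.hom)) }
  let c₂ : SCone D :=
    { pt := y.obj (ov k')
      base := base_eq y k'
      ι := fun s => (b s.obj.hom s.property).hom ≫ y.map (ovHom s.obj.hom rfl : ov (s.obj.hom ≫ k') ⟶ ov k')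
      map_ι := fun s => by
        rw [Functor.map_comp, IsoG.vert, map_w, ov_p_map]
        simp
      nat := fun {s t} n => by
        have e : n.hom.left ≫ t.obj.hom = s.obj.hom := Over.w n.hom
        change y.map _ ≫ _ = _
        have h1 := hb n.hom.left t.obj.hom t.property
        have h2 : ∀ (h : s.obj.left ⟶ T) (hh : R h), h = s.obj.hom → ∀ (e1 : h ≫ k = s.obj.hom ≫ k),
            y.map (ovHom (𝟙 _) (by rw [Category.id_comp, e1]) : ov (s.obj.hom ≫ k) ⟶ ov (h ≫ k)) ≫
              (b h hh).hom ≫ y.map (ovHom h rfl) =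
              (b s.obj.hom s.property).hom ≫ y.map (ovHom s.obj.hom rfl) := by
          rintro h hh rfl -
          rw [show ovHom (𝟙 _) (Category.id_comp (s.obj.hom ≫ k)) = 𝟙 _ from Over.OverMorphism.ext rfl,
            CategoryTheory.Functor.map_id, Category.id_comp]
        refine Eq.trans ?_ (h2 _ (R.downward_closed t.property n.hom.left) e (by rw [e]))
        rw [← h1, show ovHom (n.hom.left ≫ t.obj.hom) (rfl : (n.hom.left ≫ t.obj.hom) ≫ k' = _) =
            ovHom n.hom.left (Category.assoc _ _ _).symm ≫ ovHom t.obj.hom rfl from Over.OverMorphism.ext rfl,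
          Functor.map_comp, IsoG.res_comp_assoc, ← Category.assoc (y.map _) (y.map _), ← Functor.map_comp]
        congr 2 }
  obtain ⟨a, ⟨ha, hι⟩, hu⟩ := (isStack_iff.1 hst R hR).1 D c₁ c₂
  refine ⟨⟨a, ha⟩, fun {V} h hh => (IsoG.eq_res h rfl rfl _ _ ?_).symm, fun a' ha' => IsoG.ext (hu _ ⟨a'.vert, fun s => ?_⟩)⟩
  · exact (hι ⟨Over.mk h, hh⟩).symm
  · change y.map _ ≫ a'.hom = (b _ _).hom ≫ y.map _
    rw [← ha' s.obj.hom s.property, IsoG.res_comp]

theorem ext_sieve (hst : Stk.IsStack (AlgSp.J S) 𝒳) {T : Over S} {k k' : T ⟶ U} {R : Sieve T}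
    (hR : R ∈ AlgSp.J S T) {a a' : IsoG y k k'}
    (h : ∀ {V : Over S} (g : V ⟶ T), R g → IsoG.res g rfl rfl a = IsoG.res g rfl rfl a') : a = a' := by
  obtain ⟨c, -, hu⟩ := exists_glue hst hR (fun g _ => IsoG.res g rfl rfl a) fun n g _ =>
    IsoG.res_res n _ _ g rfl rfl a
  exact (hu a fun g hg => rfl).trans (hu a' fun g hg => (h g hg).symm).symm

theorem clAt_eq_iff {T : Over S} {k k' : T ⟶ U} :
    IsoSmLib.clAt y k = IsoSmLib.clAt y k' ↔ Nonempty (IsoG y k k') :=
  IsoSmLib.clAt_eq_iff.trans ⟨fun ⟨a, ha⟩ => ⟨⟨a, ha⟩⟩, fun ⟨a⟩ => ⟨a.hom, a.vert⟩⟩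

end Groth.Agent.BaldLib
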