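import Groth.Agent.BaldLib.Form
import Groth.Agent.CleanLocusLib.Main
import Groth.Agent.IsoNatClean.Sep
import Groth.Agent.ASt.DiagLft
import Groth.Agent.ASp.SchDenseImage
import Groth.Agent.S15473
/-!
Bald stacks are determined by their presheaves of classes.
-/

set_option autoImplicit false
set_option backward.isDefEq.respectTransparency false
set_option backward.isDefEq.respectTransparency.types false
set_option linter.unusedSectionVars false
set_option linter.style.haveILetI false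

universe u

open CategoryTheory CategoryTheory.Limits AlgebraicGeometry

namespace Groth.Agent.BaldLib

open _root_.AlgSp Groth.Agent.ASt Groth.Agent.IsoAutLib Groth.Agent.IsoNatClean

variable {S : Scheme.{u}} {𝒳 : AlgSt.Cat S} [h𝒳 : FibCat.IsFibGrpd 𝒳.p]

/-- A closed immersion through which a schematically dense open factors is an isomorphism. -/
theorem isIso_of_schDense {E W : Scheme.{u}} (e : E ⟶ W) [IsClosedImmersion e] {V : W.Opens}
    (hV : CInt.IsSchematicallyDense V) (k : V.toScheme ⟶ E) (h : k ≫ e = V.ι) : IsIso e := by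
  have hk : e.ker = ⊥ := by
    refine le_bot_iff.1 ?_
    rw [← ASp.ker_ι_eq_bot hV, ← h]
    exact Scheme.Hom.le_ker_comp k e
  haveI : IsIso e.ker.subschemeι := by rw [hk]; infer_instance
  rw [← e.toImage_imageι]
  exact inferInstanceAs (IsIso (e.toImage ≫ e.ker.subschemeι))

/-- A value whose clean locus is schematically dense has no automorphisms. -/
theorem autG_eq_one_of_dense
    (hd : AlgSt.RepByAlgSpWith (AlgSp.IsSeparatedMor ⊓ AlgSp.IsQuasiCompactMor)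
      (FibCat.diag (FibCat.toSelf 𝒳)))
    {W : Over S} (y : FibCat.overCat W ⥤ᵇ 𝒳)
    (hb : ∃ V : W.left.Opens, (∀ (T : Over S) (g : T ⟶ W),
        (∃ g' : T.left ⟶ ↑V, g' ≫ V.ι = g.left) ↔ IsoNat.IsClean (y.obj (Over.mk g))) ∧
      CInt.IsSchematicallyDense V) (a : AutG y (𝟙 W)) : a = 1 := by
  obtain ⟨V, hV, hVd⟩ := hb
  let i : Over.mk (V.ι ≫ W.hom) ⟶ W := Over.homMk V.ι
  have hc : IsoNat.IsClean (y.obj (ov i)) := (hV _ i).1 ⟨𝟙 _, Category.id_comp _⟩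
  have h1 : AutG.res i (Category.comp_id i) a = 1 := AutG.ext (hc _ (𝟙 _) _ (AutG.vert _))
  let φ := y.map (ovHom i (Category.comp_id i))
  refine AutG.ext (ext_dense hd (a.vert.trans (𝒳.p.map_id _).symm) φ ?_ ?_)
  · intro E e k he hk
    let ε : 𝒳.p.obj (y.obj (ov (𝟙 W))) ⟶ W := eqToHom (base_eq y (𝟙 W))
    haveI : IsClosedImmersion (e ≫ ε).left := by
      change IsClosedImmersion (e.left ≫ ε.left)
      haveI : IsIso ε.left := inferInstanceAs (IsIso ((Over.forget S).map ε))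
      haveI := he
      infer_instance
    have hk' : (eqToHom (base_eq y i).symm ≫ k) ≫ e ≫ ε = i := by
      rw [Category.assoc, reassoc_of% hk]
      simp [φ, ε, map_w, ov_p_map]
    haveI := isIso_of_schDense (e ≫ ε).left hVd (eqToHom (base_eq y i).symm ≫ k).left
      (congrArg (fun m => m.left) hk')
    haveI : IsIso (e ≫ ε) :=
      have : IsIso ((Over.forget S).map (e ≫ ε)) := ‹_›
      isIso_of_reflects_iso _ (Over.forget S)
    exact IsIso.of_isIso_comp_right e ε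
  · change φ ≫ a.hom = φ ≫ 𝟙 _
    rw [Category.comp_id, ← AutG.res_comp, h1, AutG.one_hom, Category.id_comp]

variable {U : Over S} {x : FibCat.overCat U ⥤ᵇ 𝒳}

/-- Values of a smooth chart of a bald stack are rigid over smooth bases. -/
theorem rig_of_bald
    (hd : AlgSt.RepByAlgSpWith (AlgSp.IsSeparatedMor ⊓ AlgSp.IsQuasiCompactMor)
      (FibCat.diag (FibCat.toSelf 𝒳)))
    (hb : ∀ (U : Over S) (x : FibCat.overCat U ⥤ᵇ 𝒳), AlgSt.RepByAlgSpWith (AlgSp.LocP @Smooth) x →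
      ∃ V : U.left.Opens,
        (∀ (T : Over S) (g : T ⟶ U), (∃ g' : T.left ⟶ ↑V, g' ≫ V.ι = g.left) ↔ IsoNat.IsClean (x.obj (Over.mk g))) ∧
        CInt.IsSchematicallyDense V)
    (hx : AlgSt.RepByAlgSpWith (AlgSp.LocP @Smooth) x) : Rig x := by
  intro W p hp a
  have hW := repByAlgSpWith_comp compLocal_smooth (repByAlgSpWith_overMap_locP (M := @Smooth) (σ := p) hp) hx
  let b : AutG (BasedFunctor.comp (AlgSt.overMap p) x) (𝟙 W) :=
    ⟨(AutG.res (𝟙 W) rfl a : AutG x (𝟙 W ≫ p)).hom, (AutG.res (𝟙 W) rfl a).vert⟩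
  have h1 : AutG.res (𝟙 W) (rfl : 𝟙 W ≫ p = _) a = 1 :=
    AutG.ext (congrArg AutG.hom (autG_eq_one_of_dense hd _ (hb W _ hW) b) :)
  have h2 := congrArg (AutG.res (𝟙 W) (by simp : 𝟙 W ≫ 𝟙 W ≫ p = p)) h1
  rw [AutG.res_one, AutG.res_res, AutG.res_congr (Category.comp_id _), AutG.res_id] at h2
  exact h2

/-- Every class comes locally from a smooth surjective chart. -/
theorem exists_loc (hx : AlgSt.RepByAlgSpWith (AlgSp.LocP @Smooth) x)
    (hxs : AlgSt.RepByAlgSpWith IsSurjectiveMor x) {T : Over S} (c : ClType 𝒳 T) :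
    ∃ R ∈ AlgSp.J S T, ∀ ⦃V : Over S⦄ (g : V ⟶ T), R g → ∃ k : V ⟶ U, clMap g c = IsoSmLib.clAt x k := by
  obtain ⟨z, rfl, rfl⟩ := cl_exists c
  obtain ⟨V, l, hl, hls, u, ψ, hψ⟩ := exists_lift_atlas hx hxs (objFun z rfl)
  haveI := hl
  haveI := hls
  refine ⟨facSieve l, facSieve_mem l, fun V' g ⟨m, hm⟩ => ⟨m ≫ u, ?_⟩⟩
  rw [← hm, ← clMap_comp, clMap_cl_pull, ← IsoSmLib.clMap_clAt]
  exact congrArg (clMap m) (cl_eq_iff.2 ⟨ψ, hψ⟩)

variable {𝒴 : AlgSt.Cat S} [h𝒴 : FibCat.IsFibGrpd 𝒴.p]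

theorem exists_loc_transfer (φ : IsoNat.FIso 𝒳 𝒴) {y : FibCat.overCat U ⥤ᵇ 𝒴}
    (hxy : φ.toEquiv U (IsoNat.objCls x) = IsoNat.objCls y)
    (hx : AlgSt.RepByAlgSpWith (AlgSp.LocP @Smooth) x)
    (hxs : AlgSt.RepByAlgSpWith IsSurjectiveMor x) {T : Over S} (c : ClType 𝒴 T) :
    ∃ R ∈ AlgSp.J S T, ∀ ⦃V : Over S⦄ (g : V ⟶ T), R g → ∃ k : V ⟶ U, clMap g c = IsoSmLib.clAt y k := by
  obtain ⟨R, hR, h⟩ := exists_loc hx hxs ((φ.toEquiv T).symm c : ClType 𝒳 T)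
  refine ⟨R, hR, fun V g hg => ?_⟩
  obtain ⟨k, hk⟩ := h g hg
  refine ⟨k, ?_⟩
  rw [← IsoSmLib.toEquiv_clAt φ hxy k, ← hk, IsoSmLib.toEquiv_clMap φ, Equiv.apply_symm_apply]

theorem exists_equiv_of_bald [QuasiSeparatedSpace S]
    (h𝒳a : AlgSt.IsAlgStack Scheme.fppfPrecoverage 𝒳)
    (h𝒳d : AlgSt.RepByAlgSpWith (AlgSp.IsSeparatedMor ⊓ AlgSp.IsQuasiCompactMor)
      (FibCat.diag (FibCat.toSelf 𝒳)))
    (h𝒳i : AlgSt.RepByAlgSpWith (AlgSp.LocP @LocallyOfFinitePresentation)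
      (FibCat.inertiaToBase (FibCat.toSelf 𝒳)))
    (h𝒴a : AlgSt.IsAlgStack Scheme.fppfPrecoverage 𝒴)
    (h𝒴d : AlgSt.RepByAlgSpWith (AlgSp.IsSeparatedMor ⊓ AlgSp.IsQuasiCompactMor)
      (FibCat.diag (FibCat.toSelf 𝒴)))
    (h𝒴i : AlgSt.RepByAlgSpWith (AlgSp.LocP @LocallyOfFinitePresentation)
      (FibCat.inertiaToBase (FibCat.toSelf 𝒴)))
    (h𝒳b : ∀ (U : Over S) (x : FibCat.overCat U ⥤ᵇ 𝒳), AlgSt.RepByAlgSpWith (AlgSp.LocP @Smooth) x →
      ∃ V : U.left.Opens,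
        (∀ (T : Over S) (g : T ⟶ U), (∃ g' : T.left ⟶ ↑V, g' ≫ V.ι = g.left) ↔ IsoNat.IsClean (x.obj (Over.mk g))) ∧
        CInt.IsSchematicallyDense V)
    (h𝒴b : ∀ (U : Over S) (x : FibCat.overCat U ⥤ᵇ 𝒴), AlgSt.RepByAlgSpWith (AlgSp.LocP @Smooth) x →
      ∃ V : U.left.Opens,
        (∀ (T : Over S) (g : T ⟶ U), (∃ g' : T.left ⟶ ↑V, g' ≫ V.ι = g.left) ↔ IsoNat.IsClean (x.obj (Over.mk g))) ∧
        CInt.IsSchematicallyDense V)
    (φ : IsoNat.FIso 𝒳 𝒴) :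
    ∃ e : 𝒳 ⥤ᵇ 𝒴, FibCat.IsEquivOver e := by
  have hst := h𝒳a.isStack
  have hst' := h𝒴a.isStack
  obtain ⟨U, x, hx, hxs⟩ := h𝒳a.atlas
  obtain ⟨e₀, he₀, he₁⟩ := cl_exists (φ.toEquiv U (IsoNat.objCls x) : ClType 𝒴 U)
  let y : FibCat.overCat U ⥤ᵇ 𝒴 := objFun e₀ he₀
  have hxy : φ.toEquiv U (IsoNat.objCls x) = IsoNat.objCls y := by
    refine he₁.trans ?_
    change cl e₀ he₀ = IsoSmLib.clAt y (𝟙 U)
    exact ((clMap_cl_pull (𝟙 U) e₀ he₀).symm.trans (clMap_id _)).symm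
  obtain ⟨-, hy⟩ := Groth.Agent.S15473.result S 𝒳 𝒴 h𝒳a h𝒳d h𝒳i h𝒴a h𝒴d h𝒴i φ U x y hxy
    (repByAlgSpWith_mono (fun _ _ f _ _ hf => IsoSmLib.locP_smooth_le_lfp f hf) hx) hx
  obtain ⟨C⟩ := exists_isoChart hx
  obtain ⟨D⟩ := exists_isoChart hy
  obtain ⟨β⟩ : Nonempty (IsoG y C.p C.q) := clAt_eq_iff.1 (by
    rw [← IsoSmLib.toEquiv_clAt φ hxy, ← IsoSmLib.toEquiv_clAt φ hxy, clAt_eq_iff.2 ⟨C.α⟩])
  obtain ⟨α'⟩ : Nonempty (IsoG x D.p D.q) := clAt_eq_iff.1 ((φ.toEquiv _).injective (by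
    rw [IsoSmLib.toEquiv_clAt φ hxy, IsoSmLib.toEquiv_clAt φ hxy, clAt_eq_iff.2 ⟨D.α⟩]))
  have rx : Rig x := rig_of_bald h𝒳d h𝒳b hx
  have ry : Rig y := rig_of_bald h𝒴d h𝒴b hy
  exact exists_equiv_of_transport
    { Θ := fun a => theta C β hst' ry a
      bij := fun g g' => ⟨fun a a' h =>
          (theta_theta C β hst' ry hst rx D α' a).symm.trans
            ((congrArg (theta D α' hst rx) h).trans (theta_theta C β hst' ry hst rx D α' a')),
        fun b => ⟨theta D α' hst rx b, theta_theta D α' hst rx hst' ry C β b⟩⟩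
      nat := fun j f f' a => theta_res C β hst' ry j f f' a
      map_refl := fun g => theta_refl C β hst' ry g
      map_trans := fun a a' => theta_trans C β hst' ry a a' }
    hst hst' (fun z => exists_loc hx hxs (cl z rfl)) (fun z => exists_loc_transfer φ hxy hx hxs (cl z rfl))

end Groth.Agent.BaldLib
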