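import Groth.Agent.BaldLib.Chart
/-!
Transport of isomorphisms between two charts with rigid values over smooth bases.
-/

set_option autoImplicit false
set_option backward.isDefEq.respectTransparency false
set_option backward.isDefEq.respectTransparency.types false
set_option linter.unusedSectionVars false
set_option linter.style.haveILetI false

universe u

open CategoryTheory CategoryTheory.Limits AlgebraicGeometry

namespace Groth.Agent.BaldLib

open Groth.Agent.ASt Groth.Agent.IsoAutLib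

variable {S : Scheme.{u}} {𝒳 𝒴 : AlgSt.Cat S} [h𝒳 : FibCat.IsFibGrpd 𝒳.p] [h𝒴 : FibCat.IsFibGrpd 𝒴.p] {U : Over S}

/-- Values over smooth bases have no automorphisms. -/
def Rig (y : FibCat.overCat U ⥤ᵇ 𝒳) : Prop :=
  ∀ {W : Over S} (p : W ⟶ U), Smooth p.left → ∀ a : AutG y p, a = 1

theorem Rig.eq {y : FibCat.overCat U ⥤ᵇ 𝒳} (h : Rig y) {W : Over S} {p q : W ⟶ U} (hp : Smooth p.left)
    (a b : IsoG y p q) : a = b :=
  IsoG.eq_of_aut (h p hp) a b

variable {x : FibCat.overCat U ⥤ᵇ 𝒳} {y : FibCat.overCat U ⥤ᵇ 𝒴} (C : IsoChart x) (β : IsoG y C.p C.q)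

/-- The graph of the transport. -/
def Good {T : Over S} {g g' : T ⟶ U} (a : IsoG x g g') (b : IsoG y g g') : Prop :=
  ∀ {V : Over S} (h : V ⟶ T) {l l' : V ⟶ U} (f : h ≫ g = l) (f' : h ≫ g' = l') (r : V ⟶ C.W) (e : r ≫ C.p = l)
    (e' : r ≫ C.q = l'), IsoG.res r e e' C.α = IsoG.res h f f' a → IsoG.res r e e' β = IsoG.res h f f' b

variable (hst : Stk.IsStack (AlgSp.J S) 𝒴) (hy : Rig y)

include hy in
theorem well_defined {T : Over S} {l l' : T ⟶ U} {r r' : T ⟶ C.W} (e : r ≫ C.p = l) (e' : r ≫ C.q = l')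
    (f : r' ≫ C.p = l) (f' : r' ≫ C.q = l') (h : IsoG.res r' f f' C.α = IsoG.res r e e' C.α) :
    IsoG.res r' f f' β = IsoG.res r e e' β := by
  subst e e'
  obtain ⟨W₂, a, b, t, hs, hp, hq, rfl, rfl⟩ := C.sep r r' f f' h
  have h' := congrArg (IsoG.res t (Category.assoc _ _ _).symm (Category.assoc _ _ _).symm)
    (hy.eq hs (IsoG.res b hp hq β) (IsoG.res a rfl rfl β))
  rwa [IsoG.res_res_eq rfl, IsoG.res_res_eq rfl] at h'

include hst hy in
theorem exists_good {T : Over S} {g g' : T ⟶ U} (a : IsoG x g g') : ∃ b : IsoG y g g', Good C β a b := by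
  obtain ⟨R, hR, hRc⟩ := C.cover a
  choose r e e' hr using hRc
  have hw : ∀ {V : Over S} (h : V ⟶ T) (hh : R h) {V' : Over S} (n : V' ⟶ V) {l l' : V' ⟶ U}
      (f : (n ≫ h) ≫ g = l) (f' : (n ≫ h) ≫ g' = l') (s : V' ⟶ C.W) (k : s ≫ C.p = l) (k' : s ≫ C.q = l'),
      IsoG.res s k k' C.α = IsoG.res (n ≫ h) f f' a →
        IsoG.res s k k' β = IsoG.res n (by rw [← Category.assoc, f]) (by rw [← Category.assoc, f'])
          (IsoG.res (r h hh) (e h hh) (e' h hh) β) := fun {V} h hh {V'} n {l l'} f f' s k k' hs => by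
    rw [IsoG.res_res_eq rfl]
    refine well_defined C β hy _ _ _ _ ?_
    rw [hs]
    have h1 := congrArg (IsoG.res n (show n ≫ h ≫ g = l by rw [← Category.assoc, f])
      (show n ≫ h ≫ g' = l' by rw [← Category.assoc, f'])) (hr h hh)
    rw [IsoG.res_res_eq rfl, IsoG.res_res_eq rfl] at h1
    exact h1.symm
  obtain ⟨b, hb, -⟩ := exists_glue hst hR (y := y) (k := g) (k' := g')
    (fun h hh => IsoG.res (r h hh) (e h hh) (e' h hh) β)
    fun {V V'} n h hh => (hw h hh n rfl rfl _ (e _ _) (e' _ _) (hr _ _)).symm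
  refine ⟨b, fun {V} h {l l'} f f' s k k' hs => ext_sieve hst ((AlgSp.J S).pullback_stable h hR) ?_⟩
  intro V' n hn
  have hn' : R (n ≫ h) := hn
  rw [IsoG.res_res_eq rfl, IsoG.res_res_eq rfl]
  refine (hw (n ≫ h) hn' (𝟙 _) (by rw [Category.id_comp, Category.assoc, f])
    (by rw [Category.id_comp, Category.assoc, f']) (n ≫ s) _ _ ?_).trans ?_
  · have h1 := congrArg (IsoG.res n (rfl : n ≫ l = _) (rfl : n ≫ l' = _)) hs
    rw [IsoG.res_res_eq rfl, IsoG.res_res_eq (Category.id_comp (n ≫ h)).symm] at h1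
    exact h1
  · rw [← hb (n ≫ h) hn', IsoG.res_res_eq (Category.id_comp (n ≫ h))]

include hst in
theorem good_unique {T : Over S} {g g' : T ⟶ U} {a : IsoG x g g'} {b b' : IsoG y g g'} (h : Good C β a b)
    (h' : Good C β a b') : b = b' := by
  obtain ⟨R, hR, hRc⟩ := C.cover a
  refine ext_sieve hst hR fun j hj => ?_
  obtain ⟨r, e, e', hr⟩ := hRc j hj
  exact (h j rfl rfl r e e' hr).symm.trans (h' j rfl rfl r e e' hr)

/-- The transport. -/
noncomputable def theta {T : Over S} {g g' : T ⟶ U} (a : IsoG x g g') : IsoG y g g' :=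
  (exists_good C β hst hy a).choose

theorem good_theta {T : Over S} {g g' : T ⟶ U} (a : IsoG x g g') : Good C β a (theta C β hst hy a) :=
  (exists_good C β hst hy a).choose_spec

theorem theta_res {T T' : Over S} {g g' : T ⟶ U} {l l' : T' ⟶ U} (j : T' ⟶ T) (f : j ≫ g = l)
    (f' : j ≫ g' = l') (a : IsoG x g g') :
    theta C β hst hy (IsoG.res j f f' a) = IsoG.res j f f' (theta C β hst hy a) := by
  refine good_unique C β hst (good_theta C β hst hy _) fun {V} h {m m'} k k' r e e' hr => ?_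
  rw [IsoG.res_res] at hr ⊢
  exact good_theta C β hst hy a _ _ _ r e e' hr

include hst hy in
theorem theta_refl {T : Over S} (g : T ⟶ U) : theta C β hst hy (IsoG.refl g) = IsoG.refl g := by
  have h : theta C β hst hy (IsoG.refl (y := x) (𝟙 U)) = IsoG.refl (𝟙 U) :=
    hy.eq (inferInstanceAs (Smooth (𝟙 U.left))) _ _
  rw [← IsoG.res_refl g (Category.comp_id g), theta_res, h, IsoG.res_refl]

theorem theta_trans {T : Over S} {g g' g'' : T ⟶ U} (a : IsoG x g g') (a' : IsoG x g' g'') :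
    theta C β hst hy (a.trans a') = (theta C β hst hy a).trans (theta C β hst hy a') := by
  obtain ⟨R, hR, hRc⟩ := C.cover a
  obtain ⟨R', hR', hRc'⟩ := C.cover a'
  refine ext_sieve hst ((AlgSp.J S).intersection_covering hR hR') fun {V} j hj => ?_
  obtain ⟨r, e₁, e₂, hr⟩ := hRc j hj.1
  obtain ⟨r', f₁, f₂, hr'⟩ := hRc' j hj.2
  rw [← theta_res, IsoG.res_trans j rfl rfl rfl a a', ← hr, ← hr', IsoG.res_trans j rfl rfl rfl, ← theta_res,
    ← theta_res, ← hr, ← hr']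
  let W₃ := pullback C.q C.p
  let c₁ : W₃ ⟶ C.W := pullback.fst _ _
  let c₂ : W₃ ⟶ C.W := pullback.snd _ _
  have hc : c₁ ≫ C.q = c₂ ≫ C.p := pullback.condition
  have hsm : Smooth (c₁ ≫ C.p).left := by
    haveI := C.smooth
    haveI : Smooth c₁.left :=
      MorphismProperty.of_isPullback ((IsPullback.of_hasPullback C.q C.p).flip.map (Over.forget S)) C.smooth
    rw [Over.comp_left]
    infer_instance
  let A₁ : IsoG x (c₁ ≫ C.p) (c₁ ≫ C.q) := IsoG.res c₁ rfl rfl C.α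
  let A₂ : IsoG x (c₁ ≫ C.q) (c₂ ≫ C.q) := IsoG.res c₂ hc.symm rfl C.α
  have key : theta C β hst hy (A₁.trans A₂) = (theta C β hst hy A₁).trans (theta C β hst hy A₂) :=
    hy.eq hsm _ _
  let t : V ⟶ W₃ := pullback.lift r r' (e₂.trans f₁.symm)
  have ht₁ : t ≫ c₁ = r := pullback.lift_fst _ _ _
  have ht₂ : t ≫ c₂ = r' := pullback.lift_snd _ _ _
  have g₁ : t ≫ c₁ ≫ C.p = j ≫ g := by rw [reassoc_of% ht₁, e₁]
  have g₂ : t ≫ c₁ ≫ C.q = j ≫ g' := by rw [reassoc_of% ht₁, e₂]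
  have g₃ : t ≫ c₂ ≫ C.q = j ≫ g'' := by rw [reassoc_of% ht₂, f₂]
  rw [show IsoG.res r e₁ e₂ C.α = IsoG.res t g₁ g₂ A₁ from (IsoG.res_res_eq ht₁ _ _ _ _ _).symm,
    show IsoG.res r' f₁ f₂ C.α = IsoG.res t g₂ g₃ A₂ from (IsoG.res_res_eq ht₂ _ _ _ _ _).symm,
    ← IsoG.res_trans t g₁ g₂ g₃ A₁ A₂, theta_res C β hst hy t g₁ g₃, theta_res C β hst hy t g₁ g₂ A₁,
    theta_res C β hst hy t g₂ g₃ A₂, key, IsoG.res_trans t g₁ g₂ g₃]

/-- Transporting back and forth is the identity. -/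
theorem theta_theta (hst₀ : Stk.IsStack (AlgSp.J S) 𝒳) (hx : Rig x) (D : IsoChart y) (α' : IsoG x D.p D.q)
    {T : Over S} {g g' : T ⟶ U} (a : IsoG x g g') :
    theta D α' hst₀ hx (theta C β hst hy a) = a := by
  obtain ⟨R, hR, hRc⟩ := C.cover a
  refine ext_sieve hst₀ hR fun j hj => ?_
  obtain ⟨r, e, e', hr⟩ := hRc j hj
  rw [← theta_res, ← theta_res, ← hr, theta_res, theta_res]
  exact congrArg _ (hx.eq C.smooth _ _)

end Groth.Agent.BaldLib
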